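import Groth.Agent.Lib.AdicFlat.Proper
import Mathlib.RingTheory.DiscreteValuationRing.Basic

/-!
# Flatness and smoothness over a DVR via the adic completion
-/

set_option autoImplicit false

universe u

open CategoryTheory CategoryTheory.Limits AlgebraicGeometry TopologicalSpace TensorProduct

namespace Groth.Agent.Lib.AdicFlat.Dvr

open Proper

theorem property_snd_comp {P : MorphismProperty Scheme.{u}} [P.IsStableUnderBaseChange] {X S T T' : Scheme.{u}}
    (h : X ⟶ S) (g : T ⟶ S) (e : T' ⟶ T) (hP : P (pullback.snd h g)) : P (pullback.snd h (e ≫ g)) := by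
  let m : pullback h (e ≫ g) ⟶ pullback h g :=
    pullback.lift (pullback.fst h (e ≫ g)) (pullback.snd h (e ≫ g) ≫ e)
      (by rw [Category.assoc]; exact pullback.condition)
  have hs : IsPullback m (pullback.snd h (e ≫ g)) (pullback.snd h g) e :=
    IsPullback.of_right (h₁₂ := pullback.fst h g) (v₁₃ := h) (h₂₂ := g)
      (by rw [pullback.lift_fst]; exact IsPullback.of_hasPullback h (e ≫ g))
      (pullback.lift_snd _ _ _) (IsPullback.of_hasPullback h g)
  exact MorphismProperty.of_isPullback hs hP

variable {A : Type u} [CommRing A]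

theorem flat_tensor_of_flat_snd (R' : Type u) [CommRing R'] [Algebra A R'] {X : Scheme.{u}}
    (h : X ⟶ Spec (.of A)) [Flat (pullback.snd h (Spec.map (CommRingCat.ofHom (algebraMap A R'))))]
    {U : X.Opens} (hU : IsAffineOpen U) :
    letI := (Spec.preimage (hU.fromSpec ≫ h)).hom.toAlgebra
    Module.Flat R' (R' ⊗[A] Γ(X, U)) := by
  let φ := Spec.preimage (hU.fromSpec ≫ h)
  have hφ : Spec.map φ = hU.fromSpec ≫ h := Spec.map_preimage _
  letI : Algebra A Γ(X, U) := φ.hom.toAlgebra
  let j := Spec.map (CommRingCat.ofHom (algebraMap A R'))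
  haveI hfl : Flat (pullback.snd (Spec.map φ) j) := by
    have hsq : pullback.snd (Spec.map φ) j =
        pullback.map (Spec.map φ) j h j hU.fromSpec (𝟙 _) (𝟙 _) (by rw [hφ, Category.comp_id])
          (by rw [Category.comp_id, Category.id_comp]) ≫ pullback.snd h j := by
      rw [pullback.map, pullback.lift_snd, Category.comp_id]
    rw [hsq]
    haveI : IsOpenImmersion (pullback.map (Spec.map φ) j h j hU.fromSpec (𝟙 _) (𝟙 _)
        (by rw [hφ, Category.comp_id]) (by rw [Category.comp_id, Category.id_comp])) :=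
      inferInstance
    infer_instance
  have h2 : Flat (pullback.fst (Spec.map (CommRingCat.ofHom (algebraMap A R')))
      (Spec.map (CommRingCat.ofHom (algebraMap A Γ(X, U))))) := by
    rw [show Spec.map (CommRingCat.ofHom (algebraMap A Γ(X, U))) = Spec.map φ from rfl,
      ← pullbackSymmetry_hom_comp_snd]
    exact inferInstanceAs (Flat (_ ≫ pullback.snd (Spec.map φ) j))
  haveI : MorphismProperty.RespectsIso @Flat.{u} := MorphismProperty.IsStableUnderBaseChange.respectsIso
  rw [← MorphismProperty.cancel_left_of_respectsIso @Flat.{u} (pullbackSpecIso A R' Γ(X, U)).inv,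
    pullbackSpecIso_inv_fst] at h2
  exact RingHom.flat_algebraMap_iff.1 (Flat.SpecMap_iff.1 h2)

section DVR

variable (V : Type u) [CommRing V] [IsDomain V] [IsDiscreteValuationRing V] [Algebra V A]

theorem flat_of_regular (π : V) (hπ : Irreducible π) (B : Type u) [CommRing B] [Algebra V B]
    (h : IsSMulRegular B π) : Module.Flat V B := by
  rw [Module.Flat.flat_iff_torsion_eq_bot_of_isBezout, eq_bot_iff]
  rintro x ⟨⟨r, hr⟩, hx⟩
  obtain ⟨n, v, rfl⟩ := IsDiscreteValuationRing.eq_unit_mul_pow_irreducible (nonZeroDivisors.ne_zero hr) hπ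
  have hx' : ((v : V) * π ^ n) • x = 0 := hx
  rw [mul_smul] at hx'
  have hx'' := (v.isUnit.smul_left_cancel).1 (hx'.trans (smul_zero _).symm)
  exact (h.pow n) (hx''.trans (smul_zero _).symm)

theorem regular_of_flat (π : V) (hπ : Irreducible π) (B : Type u) [CommRing B] [Algebra V B]
    [Module.Flat V B] : IsSMulRegular B π := by
  have h : IsSMulRegular B (algebraMap V B π) :=
    IsSMulRegular.of_flat (R := V) (S := B) fun x y e => mul_left_cancel₀ hπ.ne_zero e
  intro x y e
  refine h ?_
  simpa only [Algebra.smul_def, Algebra.algebraMap_self, RingHom.id_apply] using e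

variable {V}

theorem map_maximalIdeal {π : V} (hπ : Irreducible π) :
    (IsLocalRing.maximalIdeal V).map (algebraMap V A) = Ideal.span {algebraMap V A π} := by
  rw [hπ.maximalIdeal_eq, Ideal.map_span, Set.image_singleton]

/-- The chart map over `V`. -/
theorem preimage_comp {X : Scheme.{u}} (h : X ⟶ Spec (.of A)) {U : X.Opens} (hU : IsAffineOpen U) :
    hU.fromSpec ≫ h ≫ Spec.map (CommRingCat.ofHom (algebraMap V A)) =
      Spec.map (CommRingCat.ofHom (algebraMap V A) ≫ Spec.preimage (hU.fromSpec ≫ h)) := by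
  rw [Spec.map_comp, Spec.map_preimage, Category.assoc]

theorem regular_of_flat_comp {π : V} (hπ : Irreducible π) {X : Scheme.{u}} (h : X ⟶ Spec (.of A))
    [Flat (h ≫ Spec.map (CommRingCat.ofHom (algebraMap V A)))] {U : X.Opens} (hU : IsAffineOpen U) :
    IsSMulRegular Γ(X, U) ((Spec.preimage (hU.fromSpec ≫ h)).hom (algebraMap V A π)) := by
  let ψ := CommRingCat.ofHom (algebraMap V A) ≫ Spec.preimage (hU.fromSpec ≫ h)
  letI : Algebra V Γ(X, U) := ψ.hom.toAlgebra
  haveI : Flat (Spec.map ψ) := by rw [← preimage_comp]; infer_instance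
  haveI : Module.Flat V Γ(X, U) := RingHom.flat_algebraMap_iff.1 (Flat.SpecMap_iff.1 ‹_›)
  intro x y e
  refine regular_of_flat V π hπ Γ(X, U) ?_
  simp only [Algebra.smul_def, Algebra.algebraMap_self, RingHom.id_apply] at e ⊢
  exact e

variable [Algebra.Smooth V A] {π : V} (hπ : Irreducible π)

include hπ in
theorem regular_algebraMap : IsSMulRegular A (algebraMap V A π) := by
  intro x y e
  refine regular_of_flat V π hπ A ?_
  simpa only [Algebra.smul_def, Algebra.algebraMap_self, RingHom.id_apply] using e

include hπ in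
theorem flat_comp_of_flat_completion (I : Ideal A) (hI : I = Ideal.span {algebraMap V A π})
    {X : Scheme.{u}} (h : X ⟶ Spec (.of A))
    [Flat (pullback.snd h (Spec.map (CommRingCat.ofHom (algebraMap A (AdicCompletion I A)))))] :
    Flat (h ≫ Spec.map (CommRingCat.ofHom (algebraMap V A))) := by
  haveI : IsNoetherianRing A := Algebra.FiniteType.isNoetherianRing V A
  haveI : IsZariskiLocalAtSource @Flat.{u} := HasRingHomProperty.instIsZariskiLocalAtSource
  refine IsZariskiLocalAtSource.of_openCover (P := @Flat.{u}) X.affineCover fun i => ?_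
  have hU : IsAffineOpen (X.affineCover.f i).opensRange := isAffineOpen_opensRange _
  let φ := Spec.preimage (hU.fromSpec ≫ h)
  letI : Algebra A Γ(X, (X.affineCover.f i).opensRange) := φ.hom.toAlgebra
  haveI := flat_tensor_of_flat_snd (AdicCompletion I A) h hU
  have hreg := isSMulRegular_of_flat_completion (B := Γ(X, (X.affineCover.f i).opensRange))
    (algebraMap V A π) (regular_algebraMap hπ) I hI
  let ψ := CommRingCat.ofHom (algebraMap V A) ≫ φ
  letI : Algebra V Γ(X, (X.affineCover.f i).opensRange) := ψ.hom.toAlgebra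
  haveI : IsScalarTower V A Γ(X, (X.affineCover.f i).opensRange) := .of_algebraMap_eq fun _ => rfl
  haveI : Module.Flat V Γ(X, (X.affineCover.f i).opensRange) := flat_of_regular V π hπ _ fun x y e =>
    hreg (by simpa only [algebraMap_smul] using e)
  haveI : Flat (Spec.map ψ) := Flat.SpecMap_iff.2 (RingHom.flat_algebraMap_iff.2 ‹_›)
  haveI : Flat (hU.fromSpec ≫ h ≫ Spec.map (CommRingCat.ofHom (algebraMap V A))) := by
    rw [preimage_comp]; infer_instance
  have e : X.affineCover.f i =
      IsOpenImmersion.lift hU.fromSpec (X.affineCover.f i) (by rw [hU.range_fromSpec]; exact le_rfl) ≫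
        hU.fromSpec := (IsOpenImmersion.lift_fac _ _ _).symm
  rw [e, Category.assoc]
  haveI : IsOpenImmersion (IsOpenImmersion.lift hU.fromSpec (X.affineCover.f i)
      (by rw [hU.range_fromSpec]; exact le_rfl)) := by
    haveI : IsOpenImmersion (IsOpenImmersion.lift hU.fromSpec (X.affineCover.f i)
      (by rw [hU.range_fromSpec]; exact le_rfl) ≫ hU.fromSpec) := by rw [← e]; infer_instance
    exact IsOpenImmersion.of_comp _ hU.fromSpec
  infer_instance

theorem property_snd_quotient {P : MorphismProperty Scheme.{u}} [P.IsStableUnderBaseChange]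
    (I : Ideal A) {X : Scheme.{u}} (h : X ⟶ Spec (.of A))
    (hP : P (pullback.snd h (Spec.map (CommRingCat.ofHom (algebraMap A (AdicCompletion I A)))))) :
    P (pullback.snd h (Spec.map (CommRingCat.ofHom (Ideal.Quotient.mk I)))) := by
  have e : Spec.map (CommRingCat.ofHom (Ideal.Quotient.mk I)) =
      Spec.map (CommRingCat.ofHom (AdicCompletion.evalOneₐ I).toRingHom) ≫
        Spec.map (CommRingCat.ofHom (algebraMap A (AdicCompletion I A))) := by
    rw [← Spec.map_comp, ← CommRingCat.ofHom_comp, AlgHom.toRingHom_eq_coe, AlgHom.comp_algebraMap,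
      Ideal.Quotient.algebraMap_eq]
  rw [e]
  exact property_snd_comp h _ _ hP

include hπ in
theorem property_completion {P : MorphismProperty Scheme.{u}} [P.IsStableUnderBaseChange] [P.RespectsIso]
    (I : Ideal A) (hI : I = Ideal.span {algebraMap V A π})
    {X : Scheme.{u}} (h : X ⟶ Spec (.of A)) [IsProper h] (W : X.Opens) (hW : P (W.ι ≫ h))
    (hclosed : ∀ x : X, algebraMap V A π ∈ (h x).asIdeal → x ∈ W) :
    P (pullback.snd h (Spec.map (CommRingCat.ofHom (algebraMap A (AdicCompletion I A))))) := by
  refine snd_of_open h _ W hW ?_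
  haveI : IsAdicComplete (I.map (algebraMap A (AdicCompletion I A))) (AdicCompletion I A) :=
    AdicCompletion.isAdicComplete_self I (by rw [hI]; exact Submodule.fg_span_singleton _)
  refine mem_of_isClosed (I.map (algebraMap A (AdicCompletion I A)))
    (pullback.snd h (Spec.map (CommRingCat.ofHom (algebraMap A (AdicCompletion I A))))) _ fun x hx => ?_
  refine hclosed _ ?_
  rw [← Scheme.Hom.comp_apply, pullback.condition, Scheme.Hom.comp_apply]
  exact Ideal.map_le_iff_le_comap.1 hx (hI ▸ Ideal.mem_span_singleton_self _)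

/-- The flat locus. -/
def flatLocus {X S : Scheme.{u}} (h : X ⟶ S) [LocallyOfFinitePresentation h] : X.Opens :=
  ⟨_, H19.FlatLocus.Scheme.isOpen_flat_stalkMap h⟩

theorem flat_flatLocus {X S : Scheme.{u}} (h : X ⟶ S) [LocallyOfFinitePresentation h] :
    Flat ((flatLocus h).ι ≫ h) := by
  refine Flat.of_stalkMap _ fun x => ?_
  have hbij : Function.Bijective ((flatLocus h).ι.stalkMap x).hom := ConcreteCategory.bijective_of_isIso _
  rw [Scheme.Hom.stalkMap_comp]
  exact RingHom.Flat.comp (show (h.stalkMap ((flatLocus h).ι x)).hom.Flat from x.2)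
    (RingHom.Flat.of_bijective hbij)

theorem smooth_smoothLocus {X S : Scheme.{u}} (h : X ⟶ S) [LocallyOfFinitePresentation h] :
    Smooth (h.smoothLocus.ι ≫ h) := by
  rw [← Scheme.Hom.smoothLocus_eq_top_iff, ← Scheme.Hom.preimage_smoothLocus_eq, Scheme.Opens.ι_preimage_self]

theorem smooth_fibre_of_smooth_quotient (a : A) {X : Scheme.{u}} (h : X ⟶ Spec (.of A))
    [Smooth (pullback.snd h (Spec.map (CommRingCat.ofHom (Ideal.Quotient.mk (Ideal.span {a})))))]
    (y : Spec (.of A)) (hy : a ∈ y.asIdeal) : Smooth (h.fiberToSpecResidueField y) := by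
  let ψ := Spec.preimage ((Spec (.of A)).fromSpecResidueField y)
  have hψ : Spec.map ψ = (Spec (.of A)).fromSpecResidueField y := Spec.map_preimage _
  have h0 : ψ.hom a = 0 := by
    have hz : ∀ z : Spec ((Spec (.of A)).residueField y), (Spec.map ψ) z = y := fun z => by
      rw [hψ, Scheme.fromSpecResidueField_apply]
    rw [← hz (IsLocalRing.closedPoint _)] at hy
    have h' : ψ.hom a ∈ IsLocalRing.maximalIdeal _ := hy
    rwa [IsLocalRing.maximalIdeal_eq_bot, Ideal.mem_bot] at h'
  have hker : ∀ r ∈ Ideal.span ({a} : Set A), ψ.hom r = 0 := fun r hr => by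
    obtain ⟨c, rfl⟩ := Ideal.mem_span_singleton'.1 hr
    rw [map_mul, h0, mul_zero]
  have e : (Spec (.of A)).fromSpecResidueField y =
      Spec.map (CommRingCat.ofHom (Ideal.Quotient.lift _ ψ.hom hker)) ≫
        Spec.map (CommRingCat.ofHom (Ideal.Quotient.mk (Ideal.span {a}))) := by
    rw [← Spec.map_comp, ← hψ]
    rfl
  have := property_snd_comp (P := @Smooth.{u}) h
    (Spec.map (CommRingCat.ofHom (Ideal.Quotient.mk (Ideal.span {a}))))
    (Spec.map (CommRingCat.ofHom (Ideal.Quotient.lift _ ψ.hom hker))) inferInstance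
  rw [← e] at this
  exact this

include hπ in
theorem flat_iff (I : Ideal A) (hI : I = Ideal.span {algebraMap V A π}) {X : Scheme.{u}}
    (h : X ⟶ Spec (.of A)) [IsProper h] :
    (Flat (h ≫ Spec.map (CommRingCat.ofHom (algebraMap V A))) ∧
        Flat (pullback.snd h (Spec.map (CommRingCat.ofHom (Ideal.Quotient.mk I))))) ↔
      Flat (pullback.snd h (Spec.map (CommRingCat.ofHom (algebraMap A (AdicCompletion I A))))) := by
  haveI : IsNoetherianRing A := Algebra.FiniteType.isNoetherianRing V A
  haveI : MorphismProperty.RespectsIso @Flat.{u} := MorphismProperty.IsStableUnderBaseChange.respectsIso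
  constructor
  · rintro ⟨h1, h2⟩
    subst hI
    exact property_completion hπ (P := @Flat.{u}) _ rfl h (flatLocus h) (flat_flatLocus h) fun x hx =>
      flat_stalkMap_of_fibre _ (regular_algebraMap hπ) h (fun U hU => regular_of_flat_comp hπ h hU) hx
  · intro h1
    exact ⟨flat_comp_of_flat_completion hπ I hI h, property_snd_quotient (P := @Flat.{u}) I h h1⟩

include hπ in
theorem smooth_iff (I : Ideal A) (hI : I = Ideal.span {algebraMap V A π}) {X : Scheme.{u}}
    (h : X ⟶ Spec (.of A)) [IsProper h] :
    (Flat (h ≫ Spec.map (CommRingCat.ofHom (algebraMap V A))) ∧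
        Smooth (pullback.snd h (Spec.map (CommRingCat.ofHom (Ideal.Quotient.mk I))))) ↔
      Smooth (pullback.snd h (Spec.map (CommRingCat.ofHom (algebraMap A (AdicCompletion I A))))) := by
  haveI : IsNoetherianRing A := Algebra.FiniteType.isNoetherianRing V A
  haveI : MorphismProperty.RespectsIso @Smooth.{u} := MorphismProperty.IsStableUnderBaseChange.respectsIso
  constructor
  · rintro ⟨h1, h2⟩
    subst hI
    exact property_completion hπ (P := @Smooth.{u}) _ rfl h h.smoothLocus (smooth_smoothLocus h) fun x hx =>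
      Flat55.SmoothAt.mem_smoothLocus_of_fibre h x
        (flat_stalkMap_of_fibre _ (regular_algebraMap hπ) h (fun U hU => regular_of_flat_comp hπ h hU) hx)
        (h x) rfl (smooth_fibre_of_smooth_quotient _ h (h x) hx)
  · intro h1
    exact ⟨flat_comp_of_flat_completion hπ I hI h, property_snd_quotient (P := @Smooth.{u}) I h h1⟩

end DVR

end Groth.Agent.Lib.AdicFlat.Dvr
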