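import Mathlib
import Groth.Agent.Lib.Adic.Complete
import Groth.Agent.Lib.LocalFlat.Basic

/-!
# Flatness of the completion of a module with flat reductions
-/

universe u

open TensorProduct

namespace Groth.Agent.Lib.AdicFlat.Completion

open Groth.Agent.Lib.LocalFlat.Basic

section Reductions

variable {R : Type u} [CommRing R] {I : Ideal R} {M : Type u} [AddCommGroup M] [Module R M]

theorem flat_quotient_tensor [Module.Flat (R ⧸ I) ((R ⧸ I) ⊗[R] M)]
    (hI : Function.Injective (I.subtype.lTensor M)) {J : Ideal R} {n : ℕ} (hJ : I ^ n ≤ J) :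
    Module.Flat (R ⧸ J) ((R ⧸ J) ⊗[R] M) := by
  rw [Module.Flat.iff_rTensor_injective]
  intro p _
  let f : ↥p →ₗ[R ⧸ J] (R ⧸ J) := p.subtype
  have hQ : Tor1Zero R M ((R ⧸ J) ⧸ (p.restrictScalars R)) := by
    refine Tor1Zero.of_pow_smul_eq_zero hI n fun r hr x => ?_
    obtain ⟨x, rfl⟩ := Submodule.mkQ_surjective _ x
    obtain ⟨x, rfl⟩ := Ideal.Quotient.mk_surjective x
    have h : r • Ideal.Quotient.mk J x = 0 :=
      Ideal.Quotient.eq_zero_iff_mem.mpr (J.mul_mem_right x (hJ hr))
    rw [← map_smul, h, map_zero]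
  have h0 : Function.Injective ((p.restrictScalars R).subtype.lTensor M) :=
    hQ _ _ _ (p.restrictScalars R).mkQ (Submodule.injective_subtype _)
      (LinearMap.exact_subtype_mkQ _) (Submodule.mkQ_surjective _)
  have h1 : Function.Injective ((f.restrictScalars R).rTensor M) := by
    rw [← LinearMap.comm_comp_lTensor_comp_comm_eq]
    exact (TensorProduct.comm R M (R ⧸ J)).injective.comp
      (h0.comp (TensorProduct.comm R ↥p M).injective)
  let c := TensorProduct.AlgebraTensorModule.cancelBaseChange R (R ⧸ J) (R ⧸ J) ↥p M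
  let c' := TensorProduct.AlgebraTensorModule.cancelBaseChange R (R ⧸ J) (R ⧸ J) (R ⧸ J) M
  have key : (f.restrictScalars R).rTensor M ∘ c = c' ∘ f.rTensor ((R ⧸ J) ⊗[R] M) := by
    funext x
    induction x using TensorProduct.induction_on with
    | zero => simp
    | add x y hx hy => simp only [Function.comp_apply, map_add] at *; rw [hx, hy]
    | tmul a am =>
      induction am using TensorProduct.induction_on with
      | zero => simp
      | tmul b m => simp [c, c']
      | add x y hx hy => simp only [Function.comp_apply, tmul_add, map_add] at *; rw [hx, hy]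
  have h2 : Function.Injective (c' ∘ f.rTensor ((R ⧸ J) ⊗[R] M)) := by
    rw [← key]; exact h1.comp c.injective
  exact h2.of_comp

theorem flat_quotient_module [Module.Flat (R ⧸ I) ((R ⧸ I) ⊗[R] M)]
    (hI : Function.Injective (I.subtype.lTensor M)) (n : ℕ) :
    Module.Flat (R ⧸ (I ^ n • ⊤ : Ideal R)) (M ⧸ (I ^ n • ⊤ : Submodule R M)) := by
  have hJ : (I ^ n • ⊤ : Ideal R) = I ^ n := by simp
  haveI := flat_quotient_tensor hI (J := (I ^ n • ⊤ : Ideal R)) (n := n) hJ.ge
  let e0 : ((R ⧸ (I ^ n • ⊤ : Ideal R)) ⊗[R] M) ≃ₗ[R] M ⧸ (I ^ n • ⊤ : Submodule R M) :=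
    (quotTensorEquivQuotSMul M _).trans (Submodule.quotEquivOfEq _ _ (by rw [hJ]))
  exact Module.Flat.of_linearEquiv
    (e0.extendScalarsOfSurjective Ideal.Quotient.mk_surjective).symm

theorem flat_tensor_of_flat [Module.Flat (R ⧸ I) (M ⧸ (I • ⊤ : Submodule R M))] :
    Module.Flat (R ⧸ I) ((R ⧸ I) ⊗[R] M) :=
  Module.Flat.of_linearEquiv
    ((quotTensorEquivQuotSMul M I).extendScalarsOfSurjective Ideal.Quotient.mk_surjective)

theorem lTensor_subtype_injective
    (hT : Function.Injective (TensorProduct.lift ((LinearMap.lsmul R M).comp I.subtype))) :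
    Function.Injective (I.subtype.lTensor M) := by
  have : (TensorProduct.rid R M).toLinearMap ∘ₗ I.subtype.lTensor M =
      TensorProduct.lift ((LinearMap.lsmul R M).comp I.subtype) ∘ₗ
        (TensorProduct.comm R M ↥I).toLinearMap := by
    ext m x; simp
  have h2 : Function.Injective
      ((TensorProduct.rid R M).toLinearMap ∘ₗ I.subtype.lTensor M) := by
    rw [this]; exact hT.comp (TensorProduct.comm R M ↥I).injective
  exact Function.Injective.of_comp (f := TensorProduct.rid R M) (g := I.subtype.lTensor M) h2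

end Reductions

section Completion

variable {R : Type u} [CommRing R] {I : Ideal R} {M : Type u} [AddCommGroup M] [Module R M]

theorem val_eq_zero_of_le {x : AdicCompletion I M} {m n : ℕ} (h : m ≤ n) (hx : x.val n = 0) :
    x.val m = 0 := by
  rw [← x.property h, hx, map_zero]

theorem mem_map_pow_iff (hI : I.FG) (n : ℕ) (x : AdicCompletion I R) :
    x ∈ (I.map (algebraMap R (AdicCompletion I R))) ^ n ↔ x.val n = 0 := by
  rw [← Ideal.map_pow, ← Submodule.restrictScalars_mem R, ← Ideal.smul_top_eq_map,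
    AdicCompletion.pow_smul_top_eq_ker_eval hI]
  rfl

theorem exists_artinRees {A N : Type u} [CommRing A] [IsNoetherianRing A] [AddCommGroup N]
    [Module A N] [Module.Finite A N] (J : Ideal A) (P : Submodule A N) :
    ∃ c : ℕ, ∀ n, J ^ n • (⊤ : Submodule A N) ⊓ P ≤ J ^ (n - c) • P := by
  obtain ⟨c, hc⟩ := Ideal.exists_pow_inf_eq_pow_smul J P
  refine ⟨c, fun n => ?_⟩
  rcases le_or_gt c n with h | h
  · rw [hc n h]; exact smul_mono_right _ inf_le_right
  · rw [show n - c = 0 by omega, pow_zero, Ideal.one_eq_top, Submodule.top_smul]; exact inf_le_right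

theorem sum_comm_smul {A N : Type u} [CommRing A] [AddCommGroup N] [Module A N] {r k : ℕ}
    (d : Fin k → Fin r → A) (s : Fin r → A) (Y : Fin k → N) :
    ∑ p, s p • ∑ l, d l p • Y l = ∑ l, (∑ p, d l p * s p) • Y l := by
  simp only [Finset.smul_sum, Finset.sum_smul, smul_smul]
  rw [Finset.sum_comm]
  exact Finset.sum_congr rfl fun l _ => Finset.sum_congr rfl fun p _ => by rw [mul_comm]

variable (M) in
/-- Approximate solutions of a linear system are close to combinations of exact solutions. -/
theorem exists_lift_relation [IsNoetherianRing (AdicCompletion I R)] (hI : I.FG)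
    (hflat : ∀ n, Module.Flat (R ⧸ (I ^ n • ⊤ : Ideal R)) (M ⧸ (I ^ n • ⊤ : Submodule R M)))
    {a b : ℕ} (Φ : Fin b → Fin a → AdicCompletion I R) :
    ∃ (c r : ℕ) (s : Fin r → Fin a → AdicCompletion I R),
      (∀ p j, ∑ i, Φ j i * s p i = 0) ∧
      ∀ (n : ℕ) (z : Fin a → AdicCompletion I M), (∀ j, (∑ i, Φ j i • z i).val n = 0) →
        ∃ y : Fin r → AdicCompletion I M, ∀ i, (z i - ∑ p, s p i • y p).val (n - c) = 0 := by
  classical
  let φ := (Matrix.of Φ).mulVecLin
  have hφ : ∀ v j, φ v j = ∑ i, Φ j i * v i := fun v j => rfl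
  obtain ⟨c, hc⟩ := exists_artinRees (I.map (algebraMap R (AdicCompletion I R))) (LinearMap.range φ)
  obtain ⟨r, s, hs⟩ := Submodule.fg_iff_exists_fin_generating_family.mp
    (IsNoetherian.noetherian (LinearMap.ker φ))
  refine ⟨c, r, s, fun p j => ?_, fun n z hz => ?_⟩
  · have : φ (s p) = 0 := (hs.le (Submodule.subset_span ⟨p, rfl⟩) :)
    rw [← hφ, this]; rfl
  haveI := hflat n
  let A := R ⧸ (I ^ n • ⊤ : Ideal R)
  let f : (Fin b → A) →ₗ[A] (Fin a → A) :=
    Fintype.linearCombination A (fun j i => ((Φ j i).val n : A))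
  let x : (Fin a → A) →ₗ[A] M ⧸ (I ^ n • ⊤ : Submodule R M) :=
    Fintype.linearCombination A (fun i => (z i).val n)
  have hxf : x ∘ₗ f = 0 := by
    apply (Pi.basisFun A (Fin b)).ext
    intro j
    have h1 : f (Pi.single j 1) = fun i => (Φ j i).val n := by
      rw [Fintype.linearCombination_apply_single, one_smul]
    rw [Pi.basisFun_apply, LinearMap.comp_apply, LinearMap.zero_apply, h1,
      Fintype.linearCombination_apply, ← hz j, AdicCompletion.val_sum_apply]
    rfl
  obtain ⟨k, a', y', hxy, haf⟩ := Module.Flat.exists_factorization_of_comp_eq_zero_of_free hxf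
  choose V hV using fun (l : Fin k) (i : Fin a) =>
    AdicCompletion.eval_surjective I R n (a' (Pi.single i 1) l)
  choose Y hY using fun l : Fin k =>
    AdicCompletion.eval_surjective I M n (y' (Finsupp.single l 1))
  simp only [AdicCompletion.eval_apply] at hV hY
  -- the relations, up to `I ^ n`
  have hVrel : ∀ l j, (φ (V l) j).val n = 0 := by
    intro l j
    rw [hφ, AdicCompletion.val_sum_apply]
    simp only [AdicCompletion.val_mul, hV]
    have h := congrArg (fun g : (Fin b → A) →ₗ[A] (Fin k →₀ A) => g (Pi.single j 1) l) haf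
    have h' : f (Pi.single j 1) = ∑ i, (Φ j i).val n • Pi.single i (1 : A) := by
      rw [Fintype.linearCombination_apply_single, one_smul]
      exact pi_eq_sum_univ' _
    simp only [LinearMap.comp_apply, h', map_sum, map_smul, Finsupp.finsetSum_apply,
      Finsupp.smul_apply, LinearMap.zero_apply, Finsupp.zero_apply] at h
    exact h
  have hW : ∀ l, ∃ W : Fin a → AdicCompletion I R,
      (∀ i, (W i).val (n - c) = 0) ∧ φ (V l - W) = 0 := by
    intro l
    have h1 : φ (V l) ∈ (I.map (algebraMap R (AdicCompletion I R))) ^ (n - c) • LinearMap.range φ :=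
      hc n ⟨Adic.Complete.mem_smul_top_pi fun j => (mem_map_pow_iff hI n _).2 (hVrel l j), ⟨_, rfl⟩⟩
    rw [LinearMap.range_eq_map, ← Submodule.map_smul''] at h1
    obtain ⟨W, hW, hWφ⟩ := h1
    exact ⟨W, fun i => (mem_map_pow_iff hI _ _).1 (Adic.Complete.mem_of_mem_smul_top_pi hW i),
      by rw [map_sub, hWφ, sub_self]⟩
  choose W hW hWφ using hW
  have hd : ∀ l, ∃ d : Fin r → AdicCompletion I R, ∑ p, d p • s p = V l - W l := fun l =>
    (Submodule.mem_span_range_iff_exists_fun _).mp (hs ▸ (hWφ l :))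
  choose d hd using hd
  refine ⟨fun p => ∑ l, d l p • Y l, fun i => ?_⟩
  have hdi : ∀ l, ∑ p, d l p * s p i = V l i - W l i := fun l => by
    have := congrFun (hd l) i
    simpa [Finset.sum_apply] using this
  have e : z i - ∑ p, s p i • ∑ l, d l p • Y l =
      (z i - ∑ l, V l i • Y l) + ∑ l, W l i • Y l := by
    rw [sum_comm_smul d (fun p => s p i) Y]
    simp only [hdi, sub_smul, Finset.sum_sub_distrib]
    abel
  have h0 : (z i - ∑ l, V l i • Y l).val n = 0 := by
    have h := congrArg (fun g : (Fin a → A) →ₗ[A] _ => g (Pi.single i 1)) hxy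
    have h1 : x (Pi.single i 1) = (z i).val n := by
      simp [x]
    simp only [LinearMap.comp_apply, h1] at h
    have h2 : a' (Pi.single i 1) = ∑ l, a' (Pi.single i 1) l • Finsupp.single l (1 : A) := by
      ext l; simp [Finsupp.single_apply]
    rw [h2, map_sum] at h
    simp only [map_smul, ← hY, ← hV] at h
    rw [AdicCompletion.val_sub_apply, AdicCompletion.val_sum_apply, h]
    simp only [AdicCompletion.smul_eval]
    exact sub_self _
  rw [e, AdicCompletion.val_add_apply, val_eq_zero_of_le (Nat.sub_le n c) h0, zero_add,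
    AdicCompletion.val_sum_apply]
  refine Finset.sum_eq_zero fun l _ => ?_
  rw [AdicCompletion.smul_eval, hW l i, zero_smul]

theorem flat_completion [IsNoetherianRing (AdicCompletion I R)] (hI : I.FG)
    (hflat : ∀ n, Module.Flat (R ⧸ (I ^ n • ⊤ : Ideal R)) (M ⧸ (I ^ n • ⊤ : Submodule R M))) :
    Module.Flat (AdicCompletion I R) (AdicCompletion I M) := by
  rw [Module.Flat.iff_forall_isTrivialRelation]
  intro l f x hfx
  obtain ⟨c₁, r, s, hs, hs'⟩ := exists_lift_relation M hI hflat (fun (_ : Fin 1) => f)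
  obtain ⟨c₂, q, w, hw, hw'⟩ := exists_lift_relation M hI hflat (fun i p => s p i)
  let S : (Fin r → AdicCompletion I M) → Fin l → AdicCompletion I M := fun y i => ∑ p, s p i • y p
  let P : ℕ → (Fin r → AdicCompletion I M) → Prop := fun n y => ∀ i, (x i - S y i).val (n + c₂) = 0
  have hex : ∀ n, ∃ y, P n y := fun n => by
    obtain ⟨y, hy⟩ := hs' (n + c₂ + c₁) x (fun _ => by simp [hfx])
    exact ⟨y, fun i => by have := hy i; rwa [Nat.add_sub_cancel] at this⟩
  have hstep : ∀ n y, P n y → ∃ y', P (n + 1) y' ∧ ∀ p, (y' p - y p).val n = 0 := by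
    intro n y hy
    obtain ⟨y₀, hy₀⟩ := hex (n + 1)
    obtain ⟨t, ht⟩ := hw' (n + c₂) (fun p => y₀ p - y p) (fun i => by
      have e : ∑ p, s p i • (y₀ p - y p) = (x i - S y i) - (x i - S y₀ i) := by
        simp only [S, smul_sub, Finset.sum_sub_distrib]; abel
      rw [e, AdicCompletion.val_sub_apply, hy i, zero_sub, neg_eq_zero]
      exact val_eq_zero_of_le (by omega) (hy₀ i))
    refine ⟨fun p => y₀ p - ∑ j, w j p • t j, fun i => ?_, fun p => ?_⟩
    · have e : S (fun p => y₀ p - ∑ j, w j p • t j) i = S y₀ i := by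
        have : ∑ p, s p i • ∑ j, w j p • t j = 0 := by
          rw [sum_comm_smul w (fun p => s p i) t]
          refine Finset.sum_eq_zero fun j _ => ?_
          rw [show ∑ p, w j p * s p i = 0 by simpa [mul_comm] using hw j i, zero_smul]
        simp only [S, smul_sub, Finset.sum_sub_distrib, this, sub_zero]
      rw [e]; exact hy₀ i
    · have := ht p
      rw [Nat.add_sub_cancel] at this
      convert this using 1
      exact congrArg (fun z : AdicCompletion I M => z.val n) (sub_right_comm _ _ _)
  choose next hnext hnext' using hstep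
  let Yn : ∀ n, { y // P n y } := fun n =>
    Nat.rec (motive := fun n => { y // P n y }) ⟨_, (hex 0).choose_spec⟩
      (fun n y => ⟨next n y.1 y.2, hnext n y.1 y.2⟩) n
  have hY : ∀ n p, ((Yn (n + 1)).1 p).val n = ((Yn n).1 p).val n := fun n p =>
    sub_eq_zero.1 (hnext' n (Yn n).1 (Yn n).2 p)
  have hYle : ∀ {m n}, m ≤ n → ∀ p, ((Yn n).1 p).val m = ((Yn m).1 p).val m := by
    intro m n h p
    induction n, h using Nat.le_induction with
    | base => rfl
    | succ n hmn ih =>
      rw [← ih, ← ((Yn (n + 1)).1 p).property hmn, hY, ((Yn n).1 p).property hmn]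
  let Yl : Fin r → AdicCompletion I M := fun p =>
    ⟨fun n => ((Yn n).1 p).val n, fun {m n} h => by
      rw [((Yn n).1 p).property h]; exact hYle h p⟩
  refine ⟨r, fun i p => s p i, Yl, fun i => ?_, fun p => hs p 0⟩
  refine AdicCompletion.ext fun n => ?_
  have h1 := val_eq_zero_of_le (Nat.le_add_right n c₂) ((Yn n).2 i)
  rw [AdicCompletion.val_sub_apply, sub_eq_zero] at h1
  rw [h1, AdicCompletion.val_sum_apply, AdicCompletion.val_sum_apply]
  simp only [AdicCompletion.smul_eval]
  rfl

end Completion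

end Groth.Agent.Lib.AdicFlat.Completion
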