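import Groth.Agent.Lib.LocalFlat.Criterion
import Groth.Agent.Lib.Flat55.SmoothAt
import Mathlib.RingTheory.AdicCompletion.AsTensorProduct
import Mathlib.RingTheory.AdicCompletion.LocalRing
import Mathlib.RingTheory.AdicCompletion.Algebra
import Mathlib.RingTheory.Flat.TorsionFree
import Mathlib.AlgebraicGeometry.Morphisms.Proper
import Mathlib.AlgebraicGeometry.Morphisms.Flat

/-!
# Flatness and smoothness of proper schemes over an adic completion
-/

set_option autoImplicit false

universe u

open CategoryTheory CategoryTheory.Limits AlgebraicGeometry TopologicalSpace TensorProduct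

namespace Groth.Agent.Lib.AdicFlat.Proper

section Algebra

variable {A B : Type u} [CommRing A] [CommRing B] [Algebra A B] (a : A)

theorem injective_span_singleton_lTensor (ha : IsSMulRegular A a) (M : Type u) [AddCommGroup M] [Module A M]
    (hM : IsSMulRegular M a) : Function.Injective ((Ideal.span {a} : Ideal A).subtype.lTensor M) := by
  rw [injective_iff_map_eq_zero]
  intro z hz
  have hsurj : ∀ w : M ⊗[A] (Ideal.span {a} : Ideal A),
      ∃ m : M, w = m ⊗ₜ ⟨a, Ideal.mem_span_singleton_self a⟩ := fun w => by
    induction w using TensorProduct.induction_on with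
    | zero => exact ⟨0, (TensorProduct.zero_tmul _ _).symm⟩
    | tmul m c =>
      obtain ⟨r, hr⟩ := Ideal.mem_span_singleton'.1 c.2
      refine ⟨r • m, ?_⟩
      rw [TensorProduct.smul_tmul]
      exact congrArg _ (Subtype.ext hr.symm)
    | add x y hx hy =>
      obtain ⟨m, rfl⟩ := hx
      obtain ⟨n, rfl⟩ := hy
      exact ⟨m + n, (TensorProduct.add_tmul _ _ _).symm⟩
  obtain ⟨m, rfl⟩ := hsurj z
  have := congrArg (TensorProduct.rid A M) hz
  rw [LinearMap.lTensor_tmul, TensorProduct.rid_tmul, map_zero] at this
  rw [hM (show a • m = a • (0 : M) by rw [smul_zero]; exact this), TensorProduct.zero_tmul]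

theorem flat_quotient_tensor_of_flat (R' S : Type u) [CommRing R'] [Algebra A R'] [CommRing S] [Algebra B S]
    [Algebra A S] [IsScalarTower A B S] [Module.Flat B S] [Module.Flat R' (R' ⊗[A] B)] :
    Module.Flat R' (R' ⊗[A] S) := by
  rw [Module.Flat.iff_rTensor_injective']
  intro J
  let J' := J.restrictScalars A
  have hsq : ∀ (T : Type u) [CommRing T] [Algebra A T] (z : J ⊗[R'] (R' ⊗[A] T)),
      AlgebraTensorModule.cancelBaseChange A R' R' R' T (J.subtype.rTensor (R' ⊗[A] T) z) =
        (J.subtype.restrictScalars A).rTensor T (AlgebraTensorModule.cancelBaseChange A R' R' J T z) := by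
    intro T _ _ z
    induction z using TensorProduct.induction_on with
    | zero => simp only [map_zero]
    | tmul j w =>
      induction w using TensorProduct.induction_on with
      | zero => simp only [TensorProduct.tmul_zero, map_zero]
      | tmul r t =>
        simp only [LinearMap.rTensor_tmul, AlgebraTensorModule.cancelBaseChange_tmul]
        rfl
      | add x y hx hy => simp only [TensorProduct.tmul_add, map_add, hx, hy]
    | add x y hx hy => simp only [map_add, hx, hy]
  have hB : Function.Injective ((J.subtype.restrictScalars A).rTensor B) := fun x y e => by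
    obtain ⟨x, rfl⟩ := (AlgebraTensorModule.cancelBaseChange A R' R' J B).surjective x
    obtain ⟨y, rfl⟩ := (AlgebraTensorModule.cancelBaseChange A R' R' J B).surjective y
    rw [← hsq, ← hsq] at e
    rw [Module.Flat.rTensor_preserves_injective_linearMap (M := R' ⊗[A] B) J.subtype J.injective_subtype
      ((LinearEquiv.injective _) e)]
  have hS : Function.Injective ((J.subtype.restrictScalars A).rTensor S) := by
    rw [← LinearMap.lTensor_inj_iff_rTensor_inj] at hB ⊢
    let g := AlgebraTensorModule.lTensor B B (J.subtype.restrictScalars A)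
    have hg : Function.Injective (g.lTensor S) :=
      Module.Flat.lTensor_preserves_injective_linearMap g hB
    have hsq' : ∀ z, AlgebraTensorModule.cancelBaseChange A B S S R' (g.lTensor S z) =
        (J.subtype.restrictScalars A).lTensor S (AlgebraTensorModule.cancelBaseChange A B S S J z) := by
      intro z
      induction z using TensorProduct.induction_on with
      | zero => simp only [map_zero]
      | tmul s w =>
        induction w using TensorProduct.induction_on with
        | zero => simp only [TensorProduct.tmul_zero, map_zero]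
        | tmul b j =>
          simp only [g, LinearMap.lTensor_tmul, AlgebraTensorModule.lTensor_tmul,
            AlgebraTensorModule.cancelBaseChange_tmul]
        | add x y hx hy => simp only [TensorProduct.tmul_add, map_add, hx, hy]
      | add x y hx hy => simp only [map_add, hx, hy]
    intro x y e
    obtain ⟨x, rfl⟩ := (AlgebraTensorModule.cancelBaseChange A B S S J).surjective x
    obtain ⟨y, rfl⟩ := (AlgebraTensorModule.cancelBaseChange A B S S J).surjective y
    rw [← hsq', ← hsq'] at e
    rw [hg ((LinearEquiv.injective _) e)]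
  intro x y e
  refine (AlgebraTensorModule.cancelBaseChange A R' R' J S).injective (hS ?_)
  rw [← hsq, ← hsq, e]

theorem flat_localization_of_flat_quotient [IsNoetherianRing A] [IsNoetherianRing B]
    (ha : IsSMulRegular A a) (hb : IsSMulRegular B a)
    [Module.Flat (A ⧸ Ideal.span {a}) ((A ⧸ Ideal.span {a}) ⊗[A] B)]
    (q : Ideal B) [q.IsPrime] (hq : algebraMap A B a ∈ q) :
    Module.Flat A (Localization.AtPrime q) := by
  let S := Localization.AtPrime q
  have hS : IsSMulRegular S a := by
    have : IsSMulRegular S (algebraMap B S (algebraMap A B a)) := IsSMulRegular.of_flat (R := B) (S := S)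
      (show IsSMulRegular B (algebraMap A B a) from fun x y h => hb (by
        simp only [Algebra.smul_def] at h ⊢
        exact h))
    intro x y h
    refine this ?_
    simp only [Algebra.smul_def, ← IsScalarTower.algebraMap_apply A B S] at h ⊢
    exact h
  haveI : Module.Flat (A ⧸ Ideal.span {a}) ((A ⧸ Ideal.span {a}) ⊗[A] S) :=
    flat_quotient_tensor_of_flat (B := B) _ S
  refine LocalFlat.Criterion.flat_of_injective_of_flat_quotient S (Ideal.span {a}) (M := S) ?_
    (injective_span_singleton_lTensor a ha S hS)
  refine LocalFlat.Criterion.map_le_jacobson_bot (S := S) fun htop => ?_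
  have hle : (Ideal.span {a}).map (algebraMap A S) ≤ IsLocalRing.maximalIdeal S := by
    rw [Ideal.map_span, Set.image_singleton, Ideal.span_le, Set.singleton_subset_iff,
      IsScalarTower.algebraMap_apply A B S, SetLike.mem_coe,
      IsLocalization.AtPrime.to_map_mem_maximal_iff S q]
    exact hq
  rw [htop] at hle
  exact (IsLocalRing.maximalIdeal.isMaximal S).ne_top (top_le_iff.1 hle)

theorem isSMulRegular_of_flat_completion [IsNoetherianRing A] (ha : IsSMulRegular A a)
    (I : Ideal A) (hI : I = Ideal.span {a})
    [Module.Flat (AdicCompletion I A) (AdicCompletion I A ⊗[A] B)] : IsSMulRegular B a := by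
  subst hI
  set I := Ideal.span {a}
  let C := AdicCompletion I A
  have h1 : IsSMulRegular C (algebraMap A C a) := IsSMulRegular.of_flat ha
  have h2 : IsSMulRegular (C ⊗[A] B) a := by
    have := IsSMulRegular.of_flat (S := C ⊗[A] B) h1
    intro x y h
    refine this ?_
    rw [← IsScalarTower.algebraMap_apply A C (C ⊗[A] B)]
    exact (Algebra.smul_def a x).symm.trans (h.trans (Algebra.smul_def a y))
  rw [isSMulRegular_iff_right_eq_zero_of_smul]
  intro b hb
  let N := Submodule.span A ({b} : Set B)
  let n : N := ⟨b, Submodule.mem_span_singleton_self b⟩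
  have hzero : (1 : C) ⊗ₜ[A] b = 0 := by
    refine h2 (show a • ((1 : C) ⊗ₜ[A] b) = a • (0 : C ⊗[A] B) from ?_)
    rw [smul_zero, ← TensorProduct.tmul_smul, hb, TensorProduct.tmul_zero]
  have hn : (1 : C) ⊗ₜ[A] n = 0 := by
    refine Module.Flat.lTensor_preserves_injective_linearMap (M := C) N.subtype N.injective_subtype ?_
    rw [LinearMap.lTensor_tmul, map_zero]
    exact hzero
  have hN : I • (⊤ : Submodule A N) = ⊥ := by
    rw [eq_bot_iff, Submodule.smul_le]
    rintro r hr ⟨x, hx⟩ -
    obtain ⟨c, rfl⟩ := Ideal.mem_span_singleton'.1 hr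
    obtain ⟨d, rfl⟩ := Submodule.mem_span_singleton.1 hx
    refine Subtype.ext (show (c * a) • (d • b) = (0 : B) from ?_)
    rw [mul_smul, smul_comm a d b, hb, smul_zero, smul_zero]
  have hn' : TensorProduct.quotTensorEquivQuotSMul N I
      ((AdicCompletion.evalOneₐ I).toLinearMap.rTensor N ((1 : C) ⊗ₜ[A] n)) = 0 := by
    rw [hn, map_zero, map_zero]
  rw [LinearMap.rTensor_tmul, AlgHom.toLinearMap_apply, map_one, ← map_one (Ideal.Quotient.mk I),
    TensorProduct.quotTensorEquivQuotSMul_mk_tmul, one_smul, Submodule.Quotient.mk_eq_zero, hN,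
    Submodule.mem_bot] at hn'
  exact congrArg Subtype.val hn'

end Algebra

section Scheme

variable {A : Type u} [CommRing A]

/-- Flatness along the closed fibre. -/
theorem flat_stalkMap_of_fibre [IsNoetherianRing A] (a : A) (ha : IsSMulRegular A a)
    {X : Scheme.{u}} (h : X ⟶ Spec (.of A)) [LocallyOfFiniteType h]
    [Flat (pullback.snd h (Spec.map (CommRingCat.ofHom (Ideal.Quotient.mk (Ideal.span {a})))))]
    (hX : ∀ (U : X.Opens) (hU : IsAffineOpen U),
      IsSMulRegular Γ(X, U) ((Spec.preimage (hU.fromSpec ≫ h)).hom a))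
    {x : X} (hx : a ∈ (h x).asIdeal) : (h.stalkMap x).hom.Flat := by
  obtain ⟨U, hU, hxU, -⟩ := exists_isAffineOpen_mem_and_subset (X := X) (x := x) (U := ⊤) trivial
  let φ := Spec.preimage (hU.fromSpec ≫ h)
  have hφ : Spec.map φ = hU.fromSpec ≫ h := Spec.map_preimage _
  letI : Algebra A Γ(X, U) := φ.hom.toAlgebra
  haveI : LocallyOfFiniteType (Spec.map φ) := by rw [hφ]; infer_instance
  haveI : φ.hom.FiniteType := (HasRingHomProperty.Spec_iff (P := @LocallyOfFiniteType)).1 inferInstance
  haveI : IsNoetherianRing Γ(X, U) := by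
    haveI : Algebra.FiniteType A Γ(X, U) := RingHom.finiteType_algebraMap.1 ‹_›
    exact Algebra.FiniteType.isNoetherianRing A _
  obtain ⟨y, rfl⟩ : x ∈ Set.range hU.fromSpec := by rwa [hU.range_fromSpec]
  let q : Ideal Γ(X, U) := y.asIdeal
  haveI : q.IsPrime := y.isPrime
  have hq : algebraMap A Γ(X, U) a ∈ q := by
    have : ((Spec.map φ) y).asIdeal = q.comap φ.hom := rfl
    have h' : a ∈ ((Spec.map φ) y).asIdeal := by rw [hφ]; exact hx
    rw [this] at h'
    exact h'
  let j := Spec.map (CommRingCat.ofHom (Ideal.Quotient.mk (Ideal.span {a})))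
  haveI hfl : Flat (pullback.snd (Spec.map φ) j) := by
    have hsq : pullback.snd (Spec.map φ) j =
        pullback.map (Spec.map φ) j h j hU.fromSpec (𝟙 _) (𝟙 _) (by rw [hφ, Category.comp_id])
          (by rw [Category.comp_id, Category.id_comp]) ≫ pullback.snd h j := by
      rw [pullback.map, pullback.lift_snd, Category.comp_id]
    rw [hsq]
    haveI : IsOpenImmersion (pullback.map (Spec.map φ) j h j hU.fromSpec (𝟙 _) (𝟙 _)
        (by rw [hφ, Category.comp_id]) (by rw [Category.comp_id, Category.id_comp])) :=
      inferInstance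
    infer_instance
  haveI : Module.Flat (A ⧸ Ideal.span {a}) ((A ⧸ Ideal.span {a}) ⊗[A] Γ(X, U)) := by
    have h2 : Flat (pullback.fst (Spec.map (CommRingCat.ofHom (algebraMap A (A ⧸ Ideal.span {a}))))
        (Spec.map (CommRingCat.ofHom (algebraMap A Γ(X, U))))) := by
      rw [show Spec.map (CommRingCat.ofHom (algebraMap A Γ(X, U))) = Spec.map φ from rfl,
        ← pullbackSymmetry_hom_comp_snd]
      exact inferInstanceAs (Flat (_ ≫ pullback.snd (Spec.map φ) j))
    haveI : MorphismProperty.RespectsIso @Flat.{u} := MorphismProperty.IsStableUnderBaseChange.respectsIso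
    rw [← MorphismProperty.cancel_left_of_respectsIso @Flat.{u}
      (pullbackSpecIso A (A ⧸ Ideal.span {a}) Γ(X, U)).inv, pullbackSpecIso_inv_fst] at h2
    exact RingHom.flat_algebraMap_iff.1 (Flat.SpecMap_iff.1 h2)
  have hflat := flat_localization_of_flat_quotient (B := Γ(X, U)) a ha (fun x y e => hX U hU (by
    simp only [Algebra.smul_def] at e ⊢
    exact e)) q hq
  have h3 : ((hU.fromSpec ≫ h).stalkMap y).hom.Flat := by
    rw [← hφ]
    refine (RingHom.Flat.respectsIso.arrow_mk_iso_iff (Scheme.arrowStalkMapSpecIso φ y)).mpr ?_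
    let Ap := Localization.AtPrime (q.comap φ.hom)
    letI : Algebra Ap (Localization.AtPrime q) := (Localization.localRingHom (q.comap φ.hom) q φ.hom rfl).toAlgebra
    haveI : IsScalarTower A Ap (Localization.AtPrime q) := .of_algebraMap_eq fun r => by
      rw [RingHom.algebraMap_toAlgebra, Localization.localRingHom_to_map]
      rfl
    exact RingHom.flat_algebraMap_iff.2
      ((Module.flat_iff_of_isLocalization Ap (q.comap φ.hom).primeCompl (Localization.AtPrime q)).mpr hflat)
  rw [Scheme.Hom.stalkMap_comp] at h3
  replace h3 : ((hU.fromSpec.stalkMap y).hom.comp (h.stalkMap (hU.fromSpec y)).hom).Flat := h3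
  have hiso : Function.Bijective (hU.fromSpec.stalkMap y).hom := ConcreteCategory.bijective_of_isIso _
  have := RingHom.Flat.comp h3 (RingHom.Flat.of_bijective (f := (RingEquiv.ofBijective _ hiso).symm.toRingHom)
    (RingEquiv.ofBijective _ hiso).symm.bijective)
  rwa [← RingHom.comp_assoc, show (RingEquiv.ofBijective _ hiso).symm.toRingHom.comp
    (hU.fromSpec.stalkMap y).hom = RingHom.id _ from
      RingHom.ext fun z => (RingEquiv.ofBijective _ hiso).symm_apply_apply z, RingHom.id_comp] at this

/-- A proper scheme over a complete base has its closed points over `V(I)`. -/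
theorem mem_of_isClosed {R : Type u} [CommRing R] (I : Ideal R) [IsAdicComplete I R] {X : Scheme.{u}}
    (f : X ⟶ Spec (.of R)) [IsProper f] (W : X.Opens)
    (hW : ∀ x : X, I ≤ (f x).asIdeal → x ∈ W) : W = ⊤ := by
  haveI : CompactSpace X := QuasiCompact.compactSpace_of_compactSpace f
  by_contra hne
  have hne' : ((W : Set X)ᶜ).Nonempty := by
    by_contra he
    refine hne (eq_top_iff.2 fun x _ => ?_)
    by_contra hx
    exact he ⟨x, hx⟩
  obtain ⟨x, hxW, hx⟩ := W.isOpen.isClosed_compl.exists_closed_singleton hne'
  refine hxW (hW x ?_)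
  have hcl : IsClosed ({f x} : Set (Spec (.of R))) := by
    rw [← Set.image_singleton]
    exact f.isClosedMap _ hx
  have hmax : (f x).asIdeal.IsMaximal := (PrimeSpectrum.isClosed_singleton_iff_isMaximal _).1 hcl
  exact (IsAdicComplete.le_jacobson_bot I).trans (sInf_le ⟨bot_le, hmax⟩)

theorem snd_of_open {P : MorphismProperty Scheme.{u}} [P.IsStableUnderBaseChange] [P.RespectsIso]
    {X S T : Scheme.{u}} (h : X ⟶ S) (g : T ⟶ S) (W : X.Opens)
    (hW : P (W.ι ≫ h)) (hcov : pullback.fst h g ⁻¹ᵁ W = ⊤) : P (pullback.snd h g) := by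
  have hsq := (isPullback_morphismRestrict (pullback.fst h g) W).paste_vert (IsPullback.of_hasPullback h g)
  have h1 : P ((pullback.fst h g ⁻¹ᵁ W).ι ≫ pullback.snd h g) :=
    MorphismProperty.of_isPullback hsq hW
  haveI : IsIso (pullback.fst h g ⁻¹ᵁ W).ι := by rw [hcov]; exact inferInstanceAs (IsIso (Scheme.topIso _).hom)
  exact (MorphismProperty.cancel_left_of_respectsIso P _ _).1 h1

end Scheme

end Groth.Agent.Lib.AdicFlat.Proper
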